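import Groth.Agent.FibFlatMod.CritMain
import Groth.Agent.ModStLib.FibGrpd
import Groth.Agent.QCoh.LocFree
import Groth.Agent.KFlatLib.Scheme.Pullback
import Groth.Agent.ConsPropLib.FibreLocFreeRank

/-!
# The locus where a flat family of modules is invertible
-/

universe u

set_option autoImplicit false
set_option backward.isDefEq.respectTransparency false
set_option backward.isDefEq.respectTransparency.types false
set_option linter.style.haveILetI false

open CategoryTheory CategoryTheory.Limits AlgebraicGeometry TopologicalSpace Opposite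
open scoped TensorProduct

namespace Groth.Agent.ModStLib

/-- The stalk is free of rank one. -/
def FreeOne {X : Scheme.{u}} (M : X.Modules) (x : X) : Prop :=
  Module.Free (X.presheaf.stalk x) (M.presheaf.stalk x) ∧
    Module.finrank (X.presheaf.stalk x) (M.presheaf.stalk x) = 1

theorem isFinLocFreeOfRank_one_iff {X : Scheme.{u}} {M : X.Modules} (hM : CohB1.IsFP M) :
    FlatMod.IsFinLocFreeOfRank 1 M ↔ ∀ x, FreeOne M x := by
  rw [ConsPropLib.isFinLocFreeOfRank_iff, QCoh.isFinLocFree_iff]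
  exact ⟨fun h x => ⟨h.1.2 x, h.2 x⟩, fun h => ⟨⟨hM, fun x => (h x).1⟩, fun x => (h x).2⟩⟩

theorem isOpen_freeOne {X : Scheme.{u}} {M : X.Modules} (hM : CohB1.IsFP M) : IsOpen {x | FreeOne M x} := by
  refine isOpen_iff_forall_mem_open.2 fun x hx => ?_
  haveI := hx.1
  obtain ⟨U, n, hxU, ⟨e⟩⟩ := QCoh.exists_free_nhd_of_free_stalk hM x
  obtain ⟨_, ⟨V, hV, rfl⟩, hxV, hle⟩ :=
    X.isBasis_affineOpens.exists_subset_of_mem_open (show x ∈ U from hxU) U.2
  obtain ⟨l⟩ := QCoh.exists_linearEquiv_of_freeIso (QCoh.freeChart hV hle e)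
  have hr : ∀ y, y ∈ V → Module.finrank (X.presheaf.stalk y) (M.presheaf.stalk y) = n := fun y hy =>
    QCoh.finrank_stalk_of_freeChart hV (QCoh.isQCoh_of_isFP hM) ((QCoh.chartEquiv hV M).trans l) hy
  refine ⟨V, fun y hy => ⟨?_, ?_⟩, V.2, hxV⟩
  · letI := QCoh.stalkAlg (X := X) hy
    letI := QCoh.stalkModule M hy
    haveI := QCoh.isScalarTower_stalk M hy
    haveI := QCoh.isLocalization_stalk' hV hy
    haveI := QCoh.isLocalizedModule_germLin (QCoh.isQCoh_of_isFP hM) hV hy
    haveI : Module.Free Γ(X, V) Γ(M, V) := Module.Free.of_equiv ((QCoh.chartEquiv hV M).trans l).symm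
    exact Module.free_of_isLocalizedModule (hV.primeIdealOf ⟨y, hy⟩).asIdeal.primeCompl (QCoh.germLin M hy)
  · rw [hr y hy, ← hr x hxV, hx.2]

/-- The stalk of an inverse image. -/
noncomputable def stalkPullback {Y Z : Scheme.{u}} (h : Y ⟶ Z) (M : Z.Modules) (y : Y) :
    letI : Algebra (Z.presheaf.stalk (h y)) (Y.presheaf.stalk y) := (h.stalkMap y).hom.toAlgebra
    ((Scheme.Modules.pullback h).obj M).presheaf.stalk y ≃ₗ[Y.presheaf.stalk y]
      Y.presheaf.stalk y ⊗[Z.presheaf.stalk (h y)] M.presheaf.stalk (h y) :=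
  ((KFlatLib.stalkPullbackIso h y).app M).toLinearEquiv

theorem freeOne_pullback {Y Z : Scheme.{u}} (h : Y ⟶ Z) {M : Z.Modules} {y : Y} (hy : FreeOne M (h y)) :
    FreeOne ((Scheme.Modules.pullback h).obj M) y := by
  letI : Algebra (Z.presheaf.stalk (h y)) (Y.presheaf.stalk y) := (h.stalkMap y).hom.toAlgebra
  haveI := hy.1
  refine ⟨Module.Free.of_equiv (stalkPullback h M y).symm, ?_⟩
  rw [(stalkPullback h M y).finrank_eq, Module.finrank_baseChange, hy.2]

theorem finrank_of_pullback {Y Z : Scheme.{u}} (h : Y ⟶ Z) {M : Z.Modules} {y : Y}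
    (hy : Module.Free (Z.presheaf.stalk (h y)) (M.presheaf.stalk (h y)))
    (h1 : FreeOne ((Scheme.Modules.pullback h).obj M) y) : FreeOne M (h y) := by
  letI : Algebra (Z.presheaf.stalk (h y)) (Y.presheaf.stalk y) := (h.stalkMap y).hom.toAlgebra
  haveI := hy
  refine ⟨hy, ?_⟩
  rw [← h1.2, (stalkPullback h M y).finrank_eq, Module.finrank_baseChange]

theorem freeOne_iso {X : Scheme.{u}} {M N : X.Modules} (e : M ≅ N) {x : X} (h : FreeOne M x) : FreeOne N x := by
  haveI := h.1
  let l : M.presheaf.stalk x ≃ₗ[X.presheaf.stalk x] N.presheaf.stalk x :=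
    ((DerSch.stalkFunctor X x).mapIso e).toLinearEquiv
  exact ⟨Module.Free.of_equiv l, l.finrank_eq.symm.trans h.2⟩

/-- Flatness over the identity is flatness of the stalk. -/
theorem isFlatOverAt_id_iff {Z : Scheme.{u}} (M : Z.Modules) (z : Z) :
    FlatMod.IsFlatOverAt (𝟙 Z) M z ↔ Module.Flat (Z.presheaf.stalk z) (M.presheaf.stalk z) := by
  have hid : ∀ r : Z.presheaf.stalk z, (Scheme.Hom.stalkMap (𝟙 Z) z).hom r = r := fun r =>
    congrArg (fun φ : Z.presheaf.stalk z ⟶ Z.presheaf.stalk z => φ r) (Scheme.Hom.stalkMap_id Z z)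
  have hm : FlatMod.moduleStalkOver (𝟙 Z) M z =
      (inferInstance : Module (Z.presheaf.stalk z) (M.presheaf.stalk z)) :=
    Module.ext' _ _ fun r m => congrArg (fun a : Z.presheaf.stalk z => a • m) (hid r)
  show @Module.Flat (Z.presheaf.stalk z) (M.presheaf.stalk z) _ _ (FlatMod.moduleStalkOver (𝟙 Z) M z) ↔ _
  exact iff_of_eq (congrArg (fun i => @Module.Flat (Z.presheaf.stalk z) (M.presheaf.stalk z) _ _ i) hm)

variable {X S : Scheme.{u}} {f : X ⟶ S}

/-- Freeness of rank one descends to the point below, for a flat family of finite presentation. -/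
theorem freeOne_of_baseChange [LocallyOfFinitePresentation f] {A : ModSt.Obj f} (hA : ModSt.IsCohObj A)
    {B : ModSt.Obj f} (φ : B ⟶ A) (x' : B.XT)
    (h : FreeOne ((Scheme.Modules.pullback φ.top).obj A.E) x') : FreeOne A.E (φ.top x') := by
  have hq : Coh.IsQCoh A.E := QCoh.isQCoh_of_isFP hA.2
  haveI : LocallyOfFinitePresentation A.q :=
    MorphismProperty.of_isPullback (P := @LocallyOfFinitePresentation) A.isPullback inferInstance
  haveI : LocallyOfFinitePresentation (𝟙 A.XT ≫ A.q) := by rwa [Category.id_comp]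
  have h1 : FlatMod.IsFlatOverAt (𝟙 B.XT) ((Scheme.Modules.pullback φ.top).obj A.E) x' :=
    haveI := h.1
    (isFlatOverAt_id_iff _ _).2 inferInstance
  have hqf := (FibFlatMod.qf_baseChange φ.isPullback_top (IsPullback.of_vert_isIso (fst := φ.top) (snd := 𝟙 B.XT) (f := 𝟙 A.XT) (g := φ.top) ⟨by simp⟩) A.E hq x').1
    (FibFlatMod.qf_of_flat (𝟙 B.XT) B.q _ x' h1)
  have hfl : FlatMod.IsFlatOverAt (𝟙 A.XT ≫ A.q) A.E (φ.top x') := by
    rw [Category.id_comp]
    exact hA.1 _
  have h2 := (isFlatOverAt_id_iff _ _).1 ((FibFlatMod.flatAt_iff_qf (𝟙 A.XT) A.q A.E hA.2 (φ.top x') hfl).2 hqf)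
  haveI := h2
  haveI := QCoh.finite_stalk_of_isFT hq (QCoh.isFT_of_isFP hA.2) (φ.top x')
  exact finrank_of_pullback φ.top Module.free_of_flat_of_isLocalRing h

end Groth.Agent.ModStLib
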