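import Groth.Agent.ModStLib.Pic.Locus
import Groth.Agent.ModStLib.Pic.OpenImm
import Groth.Agent.ModStLib.Desc.Adj
import Groth.Agent.FibBase.Basic

/-!
# Invertible modules form an open substack of coherent ones
-/

universe u

set_option autoImplicit false
set_option backward.isDefEq.respectTransparency false
set_option backward.isDefEq.respectTransparency.types false
set_option linter.style.haveILetI false

open CategoryTheory CategoryTheory.Functor CategoryTheory.Limits AlgebraicGeometry TopologicalSpace Opposite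

namespace Groth.Agent.ModStLib

variable {X S : Scheme.{u}} {f : X ⟶ S} [IsProper f] [LocallyOfFinitePresentation f]

/-- The predicate of invertible objects. -/
def IsLine (A : (ModSt.Coh f).obj) : Prop := FlatMod.IsFinLocFreeOfRank 1 A.obj.E

theorem isLine_iff (A : (ModSt.Coh f).obj) : IsLine A ↔ ∀ x, FreeOne A.obj.E x :=
  isFinLocFreeOfRank_one_iff A.property.2

/-- The open of the base over which a family is invertible. -/
noncomputable def lineOpen (A : (ModSt.Coh f).obj) : A.obj.base.left.Opens :=
  haveI : IsProper A.obj.q := MorphismProperty.of_isPullback (P := @IsProper) A.obj.isPullback inferInstance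
  ⟨(A.obj.q '' {x | ¬ FreeOne A.obj.E x})ᶜ,
    ((A.obj.q.isClosedMap) _ (isClosed_compl_iff.2 (isOpen_freeOne A.property.2))).isOpen_compl⟩

theorem isLine_iff_range {A B : (ModSt.Coh f).obj} (φ : B ⟶ A) :
    IsLine B ↔ Set.range φ.hom.base.left ⊆ (lineOpen A : Set A.obj.base.left) := by
  haveI := Desc.isIso_adjC _ φ.hom.cart
  let θ := asIso (Desc.adjC _ φ.hom.c)
  rw [isLine_iff]
  constructor
  · rintro h _ ⟨t, rfl⟩ ⟨x, hx, hxt⟩
    obtain ⟨x', hx', -⟩ := Scheme.exists_preimage_of_isPullback φ.hom.isPullback_top x t hxt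
    subst hx'
    exact hx (freeOne_of_baseChange A.property φ.hom x' (freeOne_iso θ.symm (h x')))
  · intro h x'
    refine freeOne_iso θ (freeOne_pullback φ.hom.top ?_)
    by_contra hx
    refine h ⟨B.obj.q x', rfl⟩ ⟨_, hx, ?_⟩
    rw [← Scheme.Hom.comp_apply, φ.hom.w_q, Scheme.Hom.comp_apply]

/-- Invertible modules are cut out by an open immersion. -/
theorem isOpenImm_subIncl_line (f : X ⟶ S) [IsProper f] [LocallyOfFinitePresentation f] :
    AlgSt.IsOpenImm (AlgSt.subIncl (ModSt.Coh f) fun A => FlatMod.IsFinLocFreeOfRank 1 A.obj.E) := by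
  refine isOpenImm_of_charts (fun y x φ hx => ?_) fun U y => ?_
  · refine (isLine_iff_range φ).2 ?_
    rintro _ ⟨t, rfl⟩ ⟨z, hz, -⟩
    exact hz ((isLine_iff x).1 hx z)
  · let A := y.obj (Over.mk (𝟙 U))
    have hA : A.obj.base = U := y.w_obj _
    let e : U ⟶ A.obj.base := eqToHom hA.symm
    refine ⟨e.left ⁻¹ᵁ lineOpen A, fun a => ?_⟩
    let g : a ⟶ Over.mk (𝟙 U) := Over.homMk a.hom (Category.comp_id _)
    haveI : (FibCat.overCat U).p.IsHomLift a.hom g := IsHomLift.map (FibCat.overCat U).p g
    haveI := y.preserves_isHomLift a.hom g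
    have hb : (y.map g).hom.base = _ := IsHomLift.fac' (ModSt.Coh f).p a.hom (y.map g)
    refine (isLine_iff_range (y.map g)).trans ?_
    rw [hb]
    constructor
    · rintro h _ ⟨w, rfl⟩
      haveI : IsIso (eqToHom (y.w_obj a)).left :=
        (inferInstance : IsIso ((Over.forget S).map (eqToHom (y.w_obj a))))
      obtain ⟨w', rfl⟩ := (eqToHom (y.w_obj a)).left.surjective w
      show e.left (a.hom.left ((eqToHom (y.w_obj a)).left w')) ∈ lineOpen A
      exact h ⟨w', by simp only [Over.comp_left, Scheme.Hom.comp_apply]; rfl⟩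
    · rintro h _ ⟨w, rfl⟩
      simp only [Over.comp_left, Scheme.Hom.comp_apply]
      exact h ⟨_, rfl⟩

end Groth.Agent.ModStLib
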